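import Mathlib

set_option autoImplicit false

namespace Cfsg.Agent.Helper29.Deg7

/-- The identity table on seven points. -/
def id7 : List ℕ := [0, 1, 2, 3, 4, 5, 6]

/-- Composition of tables. -/
def cmp (A B : List ℕ) : List ℕ := B.map (fun m => A.getD m 0)

/-- Powers of a table. -/
def pwS (A : List ℕ) : ℕ → List ℕ
  | 0 => id7
  | k + 1 => cmp (pwS A k) A

/-- The standard seven-cycle. -/
def c0L : List ℕ := [1, 2, 3, 4, 5, 6, 0]

/-- All tables. -/
def S7L : List (List ℕ) := List.permutations' id7

/-- Evaluation of a word in two tables. -/
def evW (w : List Bool) (X Y : List ℕ) : List ℕ :=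
  w.foldl (fun r b => cmp r (if b then X else Y)) id7

/-- The number of moved points. -/
def mov (L : List ℕ) : ℕ :=
  (if L.getD 0 0 = 0 then 0 else 1) + (if L.getD 1 0 = 1 then 0 else 1) +
  (if L.getD 2 0 = 2 then 0 else 1) + (if L.getD 3 0 = 3 then 0 else 1) +
  (if L.getD 4 0 = 4 then 0 else 1) + (if L.getD 5 0 = 5 then 0 else 1) +
  (if L.getD 6 0 = 6 then 0 else 1)

/-- Some power of the table is a three-cycle. -/
def has3 (X : List ℕ) : Bool :=
  (mov X == 3) || (mov (cmp X X) == 3) || (mov (cmp (cmp X X) (cmp X X)) == 3)

/-- The powers of the seven-cycle. -/
def P7L : List (List ℕ) :=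
  [
   [0, 1, 2, 3, 4, 5, 6], [1, 2, 3, 4, 5, 6, 0], [2, 3, 4, 5, 6, 0, 1], [3, 4, 5, 6, 0, 1, 2], [4, 5, 6, 0, 1, 2, 3], [5, 6, 0, 1, 2, 3, 4],
   [6, 0, 1, 2, 3, 4, 5]]

/-- Test for normalising the seven-cycle. -/
def isN (L : List ℕ) : Bool := P7L.any (fun Q => cmp L c0L == cmp Q L)

/-- Test for preserving a Fano plane given by its lines and third-point table. -/
def isF (TT : List (List ℕ)) (lines : List (ℕ × ℕ × ℕ)) (L : List ℕ) : Bool :=
  lines.all (fun l => (TT.getD (L.getD l.1 0) []).getD (L.getD l.2.1 0) 0 == L.getD l.2.2 0)

def TT1 : List (List ℕ) :=
  [
   [7, 3, 6, 1, 5, 4, 2], [3, 7, 4, 0, 2, 6, 5], [6, 4, 7, 5, 1, 3, 0], [1, 0, 5, 7, 6, 2, 4],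
   [5, 2, 1, 6, 7, 0, 3], [4, 6, 3, 2, 0, 7, 1], [2, 5, 0, 4, 3, 1, 7]]

def LN1 : List (ℕ × ℕ × ℕ) :=
  [(1, 2, 4), (2, 3, 5), (3, 4, 6), (0, 4, 5), (1, 5, 6), (0, 2, 6), (0, 1, 3)]

def TT2 : List (List ℕ) :=
  [
   [7, 5, 3, 2, 6, 1, 4], [5, 7, 6, 4, 3, 0, 2], [3, 6, 7, 0, 5, 4, 1], [2, 4, 0, 7, 1, 6, 5],
   [6, 3, 5, 1, 7, 2, 0], [1, 0, 4, 6, 2, 7, 3], [4, 2, 1, 5, 0, 3, 7]]

def LN2 : List (ℕ × ℕ × ℕ) :=
  [(3, 5, 6), (0, 4, 6), (0, 1, 5), (1, 2, 6), (0, 2, 3), (1, 3, 4), (2, 4, 5)]

/-- The normaliser of the seven-cycle. -/
def N42L : List (List ℕ) :=
  [
   [0, 1, 2, 3, 4, 5, 6], [0, 2, 4, 6, 1, 3, 5], [0, 3, 6, 2, 5, 1, 4], [0, 4, 1, 5, 2, 6, 3], [0, 5, 3, 1, 6, 4, 2], [0, 6, 5, 4, 3, 2, 1],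
   [1, 0, 6, 5, 4, 3, 2], [1, 2, 3, 4, 5, 6, 0], [1, 3, 5, 0, 2, 4, 6], [1, 4, 0, 3, 6, 2, 5], [1, 5, 2, 6, 3, 0, 4], [1, 6, 4, 2, 0, 5, 3],
   [2, 0, 5, 3, 1, 6, 4], [2, 1, 0, 6, 5, 4, 3], [2, 3, 4, 5, 6, 0, 1], [2, 4, 6, 1, 3, 5, 0], [2, 5, 1, 4, 0, 3, 6], [2, 6, 3, 0, 4, 1, 5],
   [3, 0, 4, 1, 5, 2, 6], [3, 1, 6, 4, 2, 0, 5], [3, 2, 1, 0, 6, 5, 4], [3, 4, 5, 6, 0, 1, 2], [3, 5, 0, 2, 4, 6, 1], [3, 6, 2, 5, 1, 4, 0],
   [4, 0, 3, 6, 2, 5, 1], [4, 1, 5, 2, 6, 3, 0], [4, 2, 0, 5, 3, 1, 6], [4, 3, 2, 1, 0, 6, 5], [4, 5, 6, 0, 1, 2, 3], [4, 6, 1, 3, 5, 0, 2],
   [5, 0, 2, 4, 6, 1, 3], [5, 1, 4, 0, 3, 6, 2], [5, 2, 6, 3, 0, 4, 1], [5, 3, 1, 6, 4, 2, 0], [5, 4, 3, 2, 1, 0, 6], [5, 6, 0, 1, 2, 3, 4],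
   [6, 0, 1, 2, 3, 4, 5], [6, 1, 3, 5, 0, 2, 4], [6, 2, 5, 1, 4, 0, 3], [6, 3, 0, 4, 1, 5, 2], [6, 4, 2, 0, 5, 3, 1], [6, 5, 4, 3, 2, 1, 0]]

/-- The first Fano group. -/
def L1L : List (List ℕ) :=
  [
   [0, 1, 2, 3, 4, 5, 6], [0, 1, 4, 3, 2, 6, 5], [0, 1, 5, 3, 6, 2, 4], [0, 1, 6, 3, 5, 4, 2], [0, 2, 1, 6, 4, 5, 3], [0, 2, 3, 6, 5, 4, 1],
   [0, 2, 4, 6, 1, 3, 5], [0, 2, 5, 6, 3, 1, 4], [0, 3, 2, 1, 5, 4, 6], [0, 3, 4, 1, 6, 2, 5], [0, 3, 5, 1, 2, 6, 4], [0, 3, 6, 1, 4, 5, 2],
   [0, 4, 1, 5, 2, 6, 3], [0, 4, 2, 5, 1, 3, 6], [0, 4, 3, 5, 6, 2, 1], [0, 4, 6, 5, 3, 1, 2], [0, 5, 1, 4, 6, 2, 3], [0, 5, 2, 4, 3, 1, 6],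
   [0, 5, 3, 4, 2, 6, 1], [0, 5, 6, 4, 1, 3, 2], [0, 6, 1, 2, 5, 4, 3], [0, 6, 3, 2, 4, 5, 1], [0, 6, 4, 2, 3, 1, 5], [0, 6, 5, 2, 1, 3, 4],
   [1, 0, 2, 3, 6, 5, 4], [1, 0, 4, 3, 5, 6, 2], [1, 0, 5, 3, 4, 2, 6], [1, 0, 6, 3, 2, 4, 5], [1, 2, 0, 4, 6, 5, 3], [1, 2, 3, 4, 5, 6, 0],
   [1, 2, 5, 4, 3, 0, 6], [1, 2, 6, 4, 0, 3, 5], [1, 3, 2, 0, 5, 6, 4], [1, 3, 4, 0, 6, 5, 2], [1, 3, 5, 0, 2, 4, 6], [1, 3, 6, 0, 4, 2, 5],
   [1, 4, 0, 2, 5, 6, 3], [1, 4, 3, 2, 6, 5, 0], [1, 4, 5, 2, 0, 3, 6], [1, 4, 6, 2, 3, 0, 5], [1, 5, 0, 6, 4, 2, 3], [1, 5, 2, 6, 3, 0, 4],
   [1, 5, 3, 6, 2, 4, 0], [1, 5, 4, 6, 0, 3, 2], [1, 6, 0, 5, 2, 4, 3], [1, 6, 2, 5, 0, 3, 4], [1, 6, 3, 5, 4, 2, 0], [1, 6, 4, 5, 3, 0, 2],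
   [2, 0, 1, 6, 3, 5, 4], [2, 0, 3, 6, 1, 4, 5], [2, 0, 4, 6, 5, 3, 1], [2, 0, 5, 6, 4, 1, 3], [2, 1, 0, 4, 3, 5, 6], [2, 1, 3, 4, 0, 6, 5],
   [2, 1, 5, 4, 6, 0, 3], [2, 1, 6, 4, 5, 3, 0], [2, 3, 0, 5, 1, 4, 6], [2, 3, 1, 5, 0, 6, 4], [2, 3, 4, 5, 6, 0, 1], [2, 3, 6, 5, 4, 1, 0],
   [2, 4, 0, 1, 5, 3, 6], [2, 4, 3, 1, 6, 0, 5], [2, 4, 5, 1, 0, 6, 3], [2, 4, 6, 1, 3, 5, 0], [2, 5, 0, 3, 4, 1, 6], [2, 5, 1, 3, 6, 0, 4],
   [2, 5, 4, 3, 0, 6, 1], [2, 5, 6, 3, 1, 4, 0], [2, 6, 1, 0, 5, 3, 4], [2, 6, 3, 0, 4, 1, 5], [2, 6, 4, 0, 3, 5, 1], [2, 6, 5, 0, 1, 4, 3],
   [3, 0, 2, 1, 6, 4, 5], [3, 0, 4, 1, 5, 2, 6], [3, 0, 5, 1, 4, 6, 2], [3, 0, 6, 1, 2, 5, 4], [3, 1, 2, 0, 4, 6, 5], [3, 1, 4, 0, 2, 5, 6],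
   [3, 1, 5, 0, 6, 4, 2], [3, 1, 6, 0, 5, 2, 4], [3, 2, 0, 5, 6, 4, 1], [3, 2, 1, 5, 4, 6, 0], [3, 2, 4, 5, 1, 0, 6], [3, 2, 6, 5, 0, 1, 4],
   [3, 4, 0, 6, 5, 2, 1], [3, 4, 1, 6, 2, 5, 0], [3, 4, 2, 6, 1, 0, 5], [3, 4, 5, 6, 0, 1, 2], [3, 5, 0, 2, 4, 6, 1], [3, 5, 1, 2, 6, 4, 0],
   [3, 5, 4, 2, 0, 1, 6], [3, 5, 6, 2, 1, 0, 4], [3, 6, 0, 4, 2, 5, 1], [3, 6, 1, 4, 5, 2, 0], [3, 6, 2, 4, 0, 1, 5], [3, 6, 5, 4, 1, 0, 2],
   [4, 0, 1, 5, 3, 6, 2], [4, 0, 2, 5, 6, 3, 1], [4, 0, 3, 5, 1, 2, 6], [4, 0, 6, 5, 2, 1, 3], [4, 1, 0, 2, 3, 6, 5], [4, 1, 3, 2, 0, 5, 6],
   [4, 1, 5, 2, 6, 3, 0], [4, 1, 6, 2, 5, 0, 3], [4, 2, 0, 1, 6, 3, 5], [4, 2, 3, 1, 5, 0, 6], [4, 2, 5, 1, 3, 6, 0], [4, 2, 6, 1, 0, 5, 3],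
   [4, 3, 0, 6, 1, 2, 5], [4, 3, 1, 6, 0, 5, 2], [4, 3, 2, 6, 5, 0, 1], [4, 3, 5, 6, 2, 1, 0], [4, 5, 1, 0, 6, 3, 2], [4, 5, 2, 0, 3, 6, 1],
   [4, 5, 3, 0, 2, 1, 6], [4, 5, 6, 0, 1, 2, 3], [4, 6, 0, 3, 2, 1, 5], [4, 6, 1, 3, 5, 0, 2], [4, 6, 2, 3, 0, 5, 1], [4, 6, 5, 3, 1, 2, 0],
   [5, 0, 1, 4, 3, 2, 6], [5, 0, 2, 4, 6, 1, 3], [5, 0, 3, 4, 1, 6, 2], [5, 0, 6, 4, 2, 3, 1], [5, 1, 0, 6, 3, 2, 4], [5, 1, 2, 6, 4, 0, 3],
   [5, 1, 3, 6, 0, 4, 2], [5, 1, 4, 6, 2, 3, 0], [5, 2, 0, 3, 6, 1, 4], [5, 2, 1, 3, 4, 0, 6], [5, 2, 4, 3, 1, 6, 0], [5, 2, 6, 3, 0, 4, 1],
   [5, 3, 0, 2, 1, 6, 4], [5, 3, 1, 2, 0, 4, 6], [5, 3, 4, 2, 6, 1, 0], [5, 3, 6, 2, 4, 0, 1], [5, 4, 1, 0, 2, 3, 6], [5, 4, 2, 0, 1, 6, 3],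
   [5, 4, 3, 0, 6, 1, 2], [5, 4, 6, 0, 3, 2, 1], [5, 6, 0, 1, 2, 3, 4], [5, 6, 2, 1, 0, 4, 3], [5, 6, 3, 1, 4, 0, 2], [5, 6, 4, 1, 3, 2, 0],
   [6, 0, 1, 2, 3, 4, 5], [6, 0, 3, 2, 1, 5, 4], [6, 0, 4, 2, 5, 1, 3], [6, 0, 5, 2, 4, 3, 1], [6, 1, 0, 5, 3, 4, 2], [6, 1, 2, 5, 4, 3, 0],
   [6, 1, 3, 5, 0, 2, 4], [6, 1, 4, 5, 2, 0, 3], [6, 2, 1, 0, 4, 3, 5], [6, 2, 3, 0, 5, 1, 4], [6, 2, 4, 0, 1, 5, 3], [6, 2, 5, 0, 3, 4, 1],
   [6, 3, 0, 4, 1, 5, 2], [6, 3, 1, 4, 0, 2, 5], [6, 3, 2, 4, 5, 1, 0], [6, 3, 5, 4, 2, 0, 1], [6, 4, 0, 3, 5, 1, 2], [6, 4, 1, 3, 2, 0, 5],
   [6, 4, 2, 3, 1, 5, 0], [6, 4, 5, 3, 0, 2, 1], [6, 5, 0, 1, 4, 3, 2], [6, 5, 2, 1, 3, 4, 0], [6, 5, 3, 1, 2, 0, 4], [6, 5, 4, 1, 0, 2, 3]]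

/-- The second Fano group. -/
def L2L : List (List ℕ) :=
  [
   [0, 1, 2, 3, 4, 5, 6], [0, 1, 3, 2, 6, 5, 4], [0, 1, 4, 6, 2, 5, 3], [0, 1, 6, 4, 3, 5, 2], [0, 2, 1, 5, 4, 3, 6], [0, 2, 4, 6, 1, 3, 5],
   [0, 2, 5, 1, 6, 3, 4], [0, 2, 6, 4, 5, 3, 1], [0, 3, 1, 5, 6, 2, 4], [0, 3, 4, 6, 5, 2, 1], [0, 3, 5, 1, 4, 2, 6], [0, 3, 6, 4, 1, 2, 5],
   [0, 4, 1, 5, 2, 6, 3], [0, 4, 2, 3, 1, 6, 5], [0, 4, 3, 2, 5, 6, 1], [0, 4, 5, 1, 3, 6, 2], [0, 5, 2, 3, 6, 1, 4], [0, 5, 3, 2, 4, 1, 6],
   [0, 5, 4, 6, 3, 1, 2], [0, 5, 6, 4, 2, 1, 3], [0, 6, 1, 5, 3, 4, 2], [0, 6, 2, 3, 5, 4, 1], [0, 6, 3, 2, 1, 4, 5], [0, 6, 5, 1, 2, 4, 3],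
   [1, 0, 2, 6, 4, 5, 3], [1, 0, 3, 4, 6, 5, 2], [1, 0, 4, 3, 2, 5, 6], [1, 0, 6, 2, 3, 5, 4], [1, 2, 0, 5, 4, 6, 3], [1, 2, 3, 4, 5, 6, 0],
   [1, 2, 4, 3, 0, 6, 5], [1, 2, 5, 0, 3, 6, 4], [1, 3, 0, 5, 6, 4, 2], [1, 3, 2, 6, 5, 4, 0], [1, 3, 5, 0, 2, 4, 6], [1, 3, 6, 2, 0, 4, 5],
   [1, 4, 0, 5, 2, 3, 6], [1, 4, 2, 6, 0, 3, 5], [1, 4, 5, 0, 6, 3, 2], [1, 4, 6, 2, 5, 3, 0], [1, 5, 2, 6, 3, 0, 4], [1, 5, 3, 4, 2, 0, 6],
   [1, 5, 4, 3, 6, 0, 2], [1, 5, 6, 2, 4, 0, 3], [1, 6, 0, 5, 3, 2, 4], [1, 6, 3, 4, 0, 2, 5], [1, 6, 4, 3, 5, 2, 0], [1, 6, 5, 0, 4, 2, 3],
   [2, 0, 1, 6, 4, 3, 5], [2, 0, 4, 5, 1, 3, 6], [2, 0, 5, 4, 6, 3, 1], [2, 0, 6, 1, 5, 3, 4], [2, 1, 0, 3, 4, 6, 5], [2, 1, 3, 0, 5, 6, 4],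
   [2, 1, 4, 5, 0, 6, 3], [2, 1, 5, 4, 3, 6, 0], [2, 3, 1, 6, 5, 0, 4], [2, 3, 4, 5, 6, 0, 1], [2, 3, 5, 4, 1, 0, 6], [2, 3, 6, 1, 4, 0, 5],
   [2, 4, 0, 3, 1, 5, 6], [2, 4, 1, 6, 0, 5, 3], [2, 4, 3, 0, 6, 5, 1], [2, 4, 6, 1, 3, 5, 0], [2, 5, 0, 3, 6, 4, 1], [2, 5, 1, 6, 3, 4, 0],
   [2, 5, 3, 0, 1, 4, 6], [2, 5, 6, 1, 0, 4, 3], [2, 6, 0, 3, 5, 1, 4], [2, 6, 3, 0, 4, 1, 5], [2, 6, 4, 5, 3, 1, 0], [2, 6, 5, 4, 0, 1, 3],
   [3, 0, 1, 4, 6, 2, 5], [3, 0, 4, 1, 5, 2, 6], [3, 0, 5, 6, 4, 2, 1], [3, 0, 6, 5, 1, 2, 4], [3, 1, 0, 2, 6, 4, 5], [3, 1, 2, 0, 5, 4, 6],
   [3, 1, 5, 6, 2, 4, 0], [3, 1, 6, 5, 0, 4, 2], [3, 2, 1, 4, 5, 0, 6], [3, 2, 4, 1, 6, 0, 5], [3, 2, 5, 6, 1, 0, 4], [3, 2, 6, 5, 4, 0, 1],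
   [3, 4, 0, 2, 5, 1, 6], [3, 4, 2, 0, 6, 1, 5], [3, 4, 5, 6, 0, 1, 2], [3, 4, 6, 5, 2, 1, 0], [3, 5, 0, 2, 4, 6, 1], [3, 5, 1, 4, 2, 6, 0],
   [3, 5, 2, 0, 1, 6, 4], [3, 5, 4, 1, 0, 6, 2], [3, 6, 0, 2, 1, 5, 4], [3, 6, 1, 4, 0, 5, 2], [3, 6, 2, 0, 4, 5, 1], [3, 6, 4, 1, 2, 5, 0],
   [4, 0, 1, 3, 2, 6, 5], [4, 0, 2, 5, 1, 6, 3], [4, 0, 3, 1, 5, 6, 2], [4, 0, 5, 2, 3, 6, 1], [4, 1, 0, 6, 2, 3, 5], [4, 1, 2, 5, 0, 3, 6],
   [4, 1, 5, 2, 6, 3, 0], [4, 1, 6, 0, 5, 3, 2], [4, 2, 0, 6, 1, 5, 3], [4, 2, 1, 3, 0, 5, 6], [4, 2, 3, 1, 6, 5, 0], [4, 2, 6, 0, 3, 5, 1],
   [4, 3, 0, 6, 5, 1, 2], [4, 3, 2, 5, 6, 1, 0], [4, 3, 5, 2, 0, 1, 6], [4, 3, 6, 0, 2, 1, 5], [4, 5, 0, 6, 3, 2, 1], [4, 5, 1, 3, 6, 2, 0],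
   [4, 5, 3, 1, 0, 2, 6], [4, 5, 6, 0, 1, 2, 3], [4, 6, 1, 3, 5, 0, 2], [4, 6, 2, 5, 3, 0, 1], [4, 6, 3, 1, 2, 0, 5], [4, 6, 5, 2, 1, 0, 3],
   [5, 0, 2, 4, 6, 1, 3], [5, 0, 3, 6, 4, 1, 2], [5, 0, 4, 2, 3, 1, 6], [5, 0, 6, 3, 2, 1, 4], [5, 1, 2, 4, 3, 0, 6], [5, 1, 3, 6, 2, 0, 4],
   [5, 1, 4, 2, 6, 0, 3], [5, 1, 6, 3, 4, 0, 2], [5, 2, 0, 1, 6, 4, 3], [5, 2, 1, 0, 3, 4, 6], [5, 2, 3, 6, 1, 4, 0], [5, 2, 6, 3, 0, 4, 1],
   [5, 3, 0, 1, 4, 6, 2], [5, 3, 1, 0, 2, 6, 4], [5, 3, 2, 4, 1, 6, 0], [5, 3, 4, 2, 0, 6, 1], [5, 4, 0, 1, 3, 2, 6], [5, 4, 1, 0, 6, 2, 3],
   [5, 4, 3, 6, 0, 2, 1], [5, 4, 6, 3, 1, 2, 0], [5, 6, 0, 1, 2, 3, 4], [5, 6, 1, 0, 4, 3, 2], [5, 6, 2, 4, 0, 3, 1], [5, 6, 4, 2, 1, 3, 0],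
   [6, 0, 1, 2, 3, 4, 5], [6, 0, 2, 1, 5, 4, 3], [6, 0, 3, 5, 1, 4, 2], [6, 0, 5, 3, 2, 4, 1], [6, 1, 0, 4, 3, 2, 5], [6, 1, 3, 5, 0, 2, 4],
   [6, 1, 4, 0, 5, 2, 3], [6, 1, 5, 3, 4, 2, 0], [6, 2, 0, 4, 5, 1, 3], [6, 2, 3, 5, 4, 1, 0], [6, 2, 4, 0, 3, 1, 5], [6, 2, 5, 3, 0, 1, 4],
   [6, 3, 0, 4, 1, 5, 2], [6, 3, 1, 2, 0, 5, 4], [6, 3, 2, 1, 4, 5, 0], [6, 3, 4, 0, 2, 5, 1], [6, 4, 1, 2, 5, 0, 3], [6, 4, 2, 1, 3, 0, 5],
   [6, 4, 3, 5, 2, 0, 1], [6, 4, 5, 3, 1, 0, 2], [6, 5, 0, 4, 2, 3, 1], [6, 5, 1, 2, 4, 3, 0], [6, 5, 2, 1, 0, 3, 4], [6, 5, 4, 0, 1, 3, 2]]

/-- Words producing three-cycles. -/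
def fam3 : List (List Bool) :=
  [
   [false], [true, false], [true, true, false],
   [true, false, false, false], [true, true, true, false], [true, true, false, false, false],
   [true, false, false], [true, true, true, false, false, false], [true, true, false, false],
   [true, true, true, false, false], [true, true, true, false, true, false], [true, true, true, true, false, true, true, true, false],
   [true, true, true, true, true, false, true, true, false], [true, false, true, false, false, true, false, false, false], [true, true, false, true, true, false, false],
   [true, true, true, false, true, false, false, false], [true, true, true, true, false], [true, true, true, false, false, false, true, false],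
   [true, true, true, true, true, false], [true, true, false, true, false, false], [true, true, true, true, true, true, false],
   [true, true, false, false, true, false], [true, true, false, false, false, true, false]]

def s1L : List ℕ := [2, 6, 5, 0, 1, 4, 3]
def s2L : List ℕ := [2, 5, 6, 1, 0, 4, 3]

/-- Words taking an element outside the normaliser to `s1L`. -/
def F1 : List (List Bool) :=
  [
   [false, true, false, false, true], [true, false, true, false, false], [false, false, true, false, true],
   [true, false, false, true, false], [true, false, false, false, true, false], [false, true, false, false, false, true],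
   [false, true, false, true, false, false, true], [true, false, false, true, false, true, false], [false, false, true, true, true, false, false],
   [true, false, true, true, false, false, false], [false, true, false, true, true, false, true, true], [true, true, false, true, true, false, true, false],
   [false, false, true, false, true, true, true, false, true], [false, true, true, true, false], [false, false, true, true, true, false],
   [true, true, true, false, false, true], [false, true, true, false, false, true], [true, true, false, false, true, true],
   [false, true, true, true, false, false], [true, false, false, true, true, true], [false, false, true, true, false, true],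
   [true, false, true, false, false, false], [true, false, false, true, true, false], [true, false, true, true, false, false],
   [false, false, true, true, true, true, false], [true, false, false, true, true, false, true], [true, false, true, true, false, false, true],
   [false, true, true, true, true, false, false], [true, false, true, false, true, true, true, true, true, false], [false, true, true, true, true, true, false, true, false, true],
   [false], [false, true], [true, false],
   [false, false], [false, true, false], [false, false, false, false],
   [true, true, true, false], [false, false, false, true], [true, false, false, false],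
   [false, true, true, true], [true, false, true, true], [true, true, false, false],
   [true, true, false, true], [false, false, true, true], [true, false, false, true],
   [true, false, false, false, false], [false, true, false, true, true], [true, true, false, true, false],
   [false, false, false, false, false], [false, true, true, false, true], [true, true, false, true, true],
   [false, false, false, false, true], [true, true, false, true, true, true], [true, true, true, true, false, false],
   [true, false, true, false, true, false], [true, false, true, true, true, true], [true, true, true, true, false, true],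
   [false, true, false, true, false, true], [false, true, true, false, true, true], [false, false, true, true, true, true],
   [true, false, true, false, true, true], [false, false, false, true, true, false], [true, true, true, false, true, true],
   [false, true, false, true, true, true], [false, true, true, false, false, false], [true, true, false, true, false, true],
   [true, true, true, false, true, false], [false, false, false, true, false, true], [true, true, false, true, true, false],
   [false, true, true, true, true, false, true], [false, true, false, true, false, false, false], [false, true, false, false, false, true, true],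
   [false, true, false, true, false, true, true], [true, false, true, true, true, true, false], [true, true, false, true, false, true, false],
   [true, true, false, false, false, true, false], [false, false, false, true, false, true, false], [false, true, false, true, true, false, false],
   [false, false, true, true, false, false, true, true], [true, false, false, true, true, true, true, false], [false, true, true, true, true, true, true, false],
   [false, true, true, true, true, false, false, true], [true, false, false, true, false, true, true, false], [true, true, false, false, true, true, false, false],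
   [false, true, false, true, true, true, true, false, true], [false, true, true, false, false, false, false, true, true], [true, false, true, true, true, true, false, true, false],
   [true, false, true, true, true, false, true, false, false], [true, false, true, false, false, true, true, false, false], [true, true, false, false, false, false, true, true, false],
   [true, true, true, false, true, true, false, true, true, false], [true, false, false, true, true, true, false, false, true, false], [false, true, true, false, true, true, false, true, true, true],
   [false, true, false, false, true, true, true, false, false, true], [true, true, true, false, true, false, true, true, true, true, true], [true, true, true, true, true, false, true, false, true, true, true]]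

/-- Words taking an element outside the normaliser to `s2L`. -/
def F2 : List (List Bool) :=
  [
   [false, true, false, false, true], [true, false, true, false, false], [false, false, true, false, true],
   [true, false, false, true, false], [true, false, false, false, true, false], [false, true, false, false, false, true],
   [false, true, false, true, false, false, true], [true, false, false, true, false, true, false], [false, false, true, true, true, false, false],
   [true, false, true, true, false, false, false], [false, true, false, true, true, false, true, true], [true, true, false, true, true, false, true, false],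
   [false, false, true, false, true, true, true, false, true], [false, true, true, true, false], [false, false, true, true, true, false],
   [true, true, true, false, false, true], [false, true, true, false, false, true], [true, true, false, false, true, true],
   [false, true, true, true, false, false], [true, false, false, true, true, true], [false, false, true, true, false, true],
   [true, false, true, false, false, false], [true, false, false, true, true, false], [true, false, true, true, false, false],
   [false, false, true, true, true, true, false], [true, false, true, true, false, false, true], [true, false, false, true, true, false, true],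
   [false, true, true, true, true, false, false], [true, false, true, false, true, true, true, true, true, false], [false, true, true, true, true, true, false, true, false, true],
   [false], [false, true], [true, false],
   [false, false], [false, true, false], [false, false, false, false],
   [true, true, true, false], [false, false, false, true], [true, false, false, false],
   [false, true, true, true], [true, false, true, true], [true, true, false, false],
   [true, true, false, true], [false, false, true, true], [true, false, false, true],
   [true, false, false, false, false], [false, true, false, true, true], [true, true, false, true, false],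
   [false, false, false, false, false], [false, true, true, false, true], [true, true, false, true, true],
   [false, false, false, false, true], [true, true, false, true, true, true], [true, true, true, true, false, false],
   [true, false, true, false, true, false], [true, false, true, true, true, true], [true, true, true, true, false, true],
   [false, true, false, true, false, true], [false, true, true, false, true, true], [false, false, true, true, true, true],
   [true, false, true, false, true, true], [false, false, false, true, true, false], [true, true, true, false, true, true],
   [false, true, false, true, true, true], [false, true, true, false, false, false], [true, true, false, true, false, true],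
   [true, true, true, false, true, false], [false, false, false, true, false, true], [true, true, false, true, true, false],
   [false, true, true, true, true, false, true], [false, true, false, true, false, false, false], [false, true, false, false, false, true, true],
   [false, true, false, true, false, true, true], [true, false, true, true, true, true, false], [true, true, false, true, false, true, false],
   [true, true, false, false, false, true, false], [false, false, false, true, false, true, false], [false, true, false, true, true, false, false],
   [false, false, true, true, false, false, true, true], [true, false, false, true, true, true, true, false], [false, true, true, true, true, true, true, false],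
   [false, true, true, true, true, false, false, true], [true, false, false, true, false, true, true, false], [true, true, false, false, true, true, false, false],
   [false, true, false, true, true, true, true, false, true], [false, true, true, false, false, false, false, true, true], [true, false, true, true, true, true, false, true, false],
   [true, false, true, true, true, false, true, false, false], [true, true, false, false, false, false, true, true, false], [true, false, true, false, false, true, true, false, false],
   [true, true, true, false, true, true, false, true, true, false], [true, false, false, true, true, true, false, false, true, false], [false, true, true, false, true, true, false, true, true, true],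
   [false, true, false, false, true, true, true, false, false, true], [true, true, true, false, true, false, true, true, true, true, true], [true, true, true, true, true, false, true, false, true, true, true]]

/-- Words in the seven-cycle and `s1L` for the elements of `L1L`. -/
def W1 : List (List Bool) :=
  [
   [], [false, true, true, true], [false, false, false, true],
   [true, true, true, true, false, false, true], [true, false, false, true, true, true, true], [false, true, false],
   [false, true, false, false, false, false, true], [true, true, false, false, true, false, true], [true, true, false, false, true, true, false, false],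
   [true, true, true, false, false, false], [false, true, true, false, true, false, false, true], [true, false, true, true, false, true],
   [false, true, false, true, true, false, false], [false, false, true, true, false, false, false], [true, true, true, true, true, false],
   [true, false, false, true, true, false], [true, false, false, false, false, true, true], [true, true, true, false, false, true, true],
   [false, false, false, true, false, true, false], [true, true, false, false], [true, false, true],
   [false, false, true, true, false, false, true, true], [true, false, false, false, false, false], [true, false, true, false, true, true, true],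
   [true, true, false, true], [false, true, true, true, true, true, false, true], [true, true, false, false, false, false, false],
   [false, false, true, true, false, false, true], [true, true, true, true, true, false, false, true], [true],
   [true, false, true, true, true], [false, false, false, false], [true, true, false, false, true, true, true, true],
   [true, false, true, false], [true, false, true, false, false, false, false, true], [true, true, true, false, false, true, false, true],
   [false, true, false, false, true], [false, true, true, true, true], [true, true, true, true, false, false, false],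
   [false, true, true, false, true, false, true], [true, true, false, false, true, true, false], [false, false, false, false, true, false, true],
   [false, false, false, true, true], [false, true, false, true, false, false], [true, true, true, false, false],
   [false, true, true, false], [true, true, true, true, false, false, true, true], [false, false, false, false, false, true, false],
   [true, true, true, true, false, false], [true, false, true, true, false], [true, true, true, true, true, false, false, true, true],
   [true, false, false, false, false, false, true, false], [false, true, true, true, true, true, false], [true, true, true, false, true],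
   [false, false, false, true, true, false, false, false], [true, true, true, false, false, false, false, false], [true, false, false, false, false],
   [false, true, false, false, false, false, false], [true, true], [false, true, false, true],
   [false, false, false, false, true, false, true, false], [false, true, true, false, false], [true, true, false, true, false],
   [false, true, false, false, false, false, true, true], [false, false, true, false], [true, false, true, false, false, true],
   [true, false, true, true, true, true], [true, true, true, true, true, false, false, false], [false, false, true, true, true],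
   [true, false, false, false, false, true, false, true], [false, false, false, false, true], [false],
   [true, false, false, true, true, true], [false, false, false, true, true, false], [true, false, false, false, false, true],
   [true, false], [true, true, true, true, true, false, false], [false, true, false, false],
   [false, true, false, false, false, false, false, true], [false, true, true, false, false, true, true], [true, true, true, true, false, false, false, false, false],
   [true, false, true, true, true, true, true, false], [true, true, true, true, false, true], [false, false, true, false, true, false],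
   [true, false, true, false, true], [true, true, false, false, false, false], [false, false, true],
   [true, true, true], [false, true, true, false, false, false], [true, false, false, false, false, true, false, true, false],
   [true, false, true, true, false, false], [true, true, true, false, true, false], [false, true, false, true, false, false, false, false],
   [true, false, false, true, false], [true, true, false, true, false, false, true], [false, true, false, true, true],
   [false, false, false], [true, true, false, false, true, false], [false, true, true, false, true, false, false],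
   [true, false, true, false, true, true], [true, true, false], [true, true, false, false, true, true, true],
   [false, false, false, false, true, false], [true, true, false, false, false, false, true], [false, false, false, true, false, true],
   [false, true, false, true, false, false, false], [true, false, true, false, false], [false, false, true, true],
   [true, false, false, true, false, true, false], [false, true, true, false, false, true], [false, true, true, true, true, true],
   [true, true, true, true, true, false, true], [true, true, false, true, false, true], [true, true, true, false, false, false, false],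
   [true, false, false, true], [true, true, true, true], [true, true, true, true, false, true, false],
   [true, false, true, true, false, false, false], [false, false, false, true, true, false, false], [false, true, false, false, false],
   [false, true, true], [false, true, false, false, false, false], [false, false, true, false, true],
   [true, false, true, false, false, false], [false, false, true, true, false, false], [true, false, false, false],
   [true, true, true, false, false, true, false], [false, true, true, false, true, false], [false, true, false, true, true, false],
   [true, true, true, false], [true, true, true, false, false, true, true, true], [true, false, false, false, false, true, false],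
   [true, false, false, true, true], [false, false, false, false, false, true], [false, false],
   [true, true, false, true, false, false], [false, true, false, true, true, true, true], [false, false, false, true, false],
   [true, false, true, true, true, true, true], [false, true, false, true, false, false, true], [true, true, true, true, true],
   [true, true, true, false, true, false, true], [true, true, true, true, false, false, false, false], [true, true, false, false, true],
   [false, true, false, true, false], [true, true, true, true, false, true, false, true], [true, true, true, true, true, false, false, false, false],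
   [true, true, true, false, false, true], [false, false, true, true, true, true], [true, false, true, true],
   [true, false, true, false, false, false, false], [true, false, false, true, false, true], [true, false, false, true, true, false, false],
   [true, true, false, false, false], [true, true, true, true, false, false, true, false], [false, true, true, false, true],
   [true, true, false, false, false, false, true, false], [true, false, true, false, true, true, false], [true, true, true, true, false],
   [false, false, true, true, false], [false, false, false, false, true, true], [true, true, false, false, true, true],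
   [true, false, false, false, false, false, true], [true, false, false], [false, true],
   [true, false, true, false, true, true, true, true], [false, false, false, false, false], [false, true, false, true, true, true]]

/-- Words in the seven-cycle and `s2L` for the elements of `L2L`. -/
def W2 : List (List Bool) :=
  [
   [], [true, true, false, true], [false, false, false, true],
   [true, true, false, false, false, false, false], [true, false, true, true], [true, false, true, false, false, false, false],
   [false, true, true, false], [true, true, true, true, false, false, true, true], [true, true, false, false, true, false],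
   [true, true, true, true, true, false], [false, false, true, true, false, false, false], [false, true, true, false, true, false, false],
   [false, false, false, false, true, false], [true, true, false, false, true, true, true], [false, true, true, true, true],
   [true, true, true, true, false, false, false], [false, false, false, true, true, false, false], [true, false, false, false, false, false, true],
   [true, false, false], [false, true, false, false, false], [true, true, true, false, false, true],
   [false, false, true, true, false, false, true, true], [true, true, true, true, false, true, false, true], [true, false, true, false, true, true, true],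
   [true, true, true, true, false, false, true], [false, true, true, true, true, true, false, true], [false, true, true, true],
   [false, false, true, true, false, false, true], [true, true, true, false, false, false, false, false], [true],
   [true, true, true, false, true], [false, false, false, false], [true, true, true, true, true, false, false, true, true],
   [false, true, false], [false, true, false, false, false, false, true], [true, false, true, true, false],
   [false, true, true, false, true, false], [true, true, true, false, false, true, false], [false, true, false, true, false, false],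
   [false, false, false, true, true], [true, false, false, false, false, true, false], [true, true, true, false, false, true, true, true],
   [true, false, true, true, true, true], [true, true, true, true, true, false, false, false], [true, false, true, false, false, false],
   [false, false, true, false, true], [false, false, false, true, false, true, false], [true, true, false, false],
   [false, false, true, true, true, true], [true, false, false, true, false, true], [false, false, false, false, false, true, false],
   [true, true, true, false, false], [false, true, true, true, true, true, false], [true, true, true, true, true, false, false, true],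
   [false, false, false, true, true, false, false, false], [true, false, true, true, true], [true, true, true, true, false, false, false, false, false],
   [true, true], [true, true, true, true, false, true], [true, false, false, false, false],
   [false, true, false, false], [false, true, false, false, false, false, false, true], [true, false, true, false],
   [true, false, true, false, false, false, false, true], [false, false, false, false, true], [false, true, true, false, true],
   [true, true, true, true, false, false, true, false], [false], [false, true, false, true, false, false, false, false],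
   [true, true, false, false, false, false, true, false], [false, false, true, true, false], [false, true, false, true, true],
   [false, false, false], [false, true, false, true, true, false, false], [true, false, false, true, true, false],
   [true, false, true, false, true, true], [true, true, true, true, false, false], [true, false, false, true, true, true, true],
   [true, true, false, false, true, false, true], [true, false, false, false, false, false, true, false], [true, false, true, true, true, true, true, false],
   [false, true, false, false, false, false, false], [false, false, true, false, true, false], [false, true, false, true],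
   [true, true, false, false, false, false], [false, true, true, false, false, true], [true, true, true],
   [true, true, true, true, true, false, true], [false, true, false, false, false, false, true, true], [true, false, true, false, false],
   [false, false, true, true], [true, true, false, true, false], [true, false],
   [true, false, false, false, false, true], [true, false, true, true, false, true], [false, true, true, false, true, false, false, true],
   [true, true, false], [true, true, false, false, false, false, true], [false, true, false, false, true],
   [false, true, true, false, true, false, true], [false, false, true, true, false, false], [true, false, false, false],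
   [false, false, false, false, true, false, true], [true, true, false, false, true, true, false], [false, true, true, false, false, true, true],
   [true, true, true, true, true, false, false], [true, true, false, false, true, true, true, true], [true, true, true, false, false, true, false, true],
   [true, false, true, false, true], [false, true, true, true, true, true], [false, false, true],
   [true, false, false, true, false, true, false], [false, true, false, true, false, false, true], [true, true, true, false, false, false, false],
   [false, false, false, true, false], [true, true, true, true], [false, true, true, false, false, false],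
   [true, true, false, true, false, false], [true, false, false, true, true], [true, true, true, false, true, false],
   [true, false, true, true, false, false, false], [false, false, false, false, true, true], [true, true, false, false, true, true],
   [true, true, true, true, false, true, false], [true, true, true, false], [false, true, false, true, true, false],
   [true, false, true, false, false, true], [false, false, true, false], [false, false, true, true, true],
   [true, false, false, true, true, false, false], [true, true, false, false, false], [true, false, false, false, false, true, false, true],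
   [false, false, false, false, true, false, true, false], [false, false, false, true, false, true], [false, true, false, true, false, false, false],
   [false, true, true, false, false], [false, true, false, true, true, true, true], [true, true, false, true, false, true],
   [true, false, true, true, true, true, true], [true, false, false, true], [true, true, true, true, true],
   [false, true], [true, true, true, true, false, false, false, false], [false, false, false, false, false],
   [false, true, false, true, false], [true, false, true], [true, true, true, true, true, false, false, false, false],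
   [true, false, false, false, false, false], [false, true, true], [false, true, false, false, false, false],
   [true, false, false, false, false, true, true], [true, true, true, false, false, true, true], [true, false, false, true, false],
   [true, true, true, true, false], [true, false, true, false, true, true, false], [true, true, false, true, false, false, true],
   [false, false, false, true, true, false], [true, false, false, true, true, true], [true, true, false, false, true, true, false, false],
   [true, true, true, false, false, false], [true, false, false, false, false, true, false, true, false], [false, false, false, false, false, true],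
   [false, false], [true, false, true, true, false, false], [true, true, false, false, true],
   [true, false, true, false, true, true, true, true], [true, true, true, false, true, false, true], [false, true, false, true, true, true]]

def A1L : List ℕ := [0, 1, 4, 3, 2, 6, 5]
def A2L : List ℕ := [0, 1, 3, 2, 6, 5, 4]

end Cfsg.Agent.Helper29.Deg7
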